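import Cfsg.Agent.H350.Spec.PslOutD
import Cfsg.Agent.H350.Spec.PslFrob
import Cfsg.Agent.H594.CoverPsl

/-!
# Covers of `PSL_n(q)`, `q` even, `n = 2 ^ t + 1` (helper350, for S3458)
-/

set_option autoImplicit false
set_option linter.unusedSectionVars false

namespace Cfsg.Agent.H350.PslCov

open Finset Polynomial
open Cfsg.Agent.H373.Recog Cfsg.Agent.H350.PslOut
open Cfsg.Agent.H199.PslAut
open Cfsg.Agent.ClassicalGeometry.AutPSL.Root
open Cfsg.Agent.ClassicalGeometry.AutPSL.Auto

universe v w

/-- a regular unipotent matrix -/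
theorem exists_unip {F : Type*} [Field F] [CharP F 2] {n t : ℕ} (hn : n = 2 ^ t + 1) :
    ∃ M : Matrix (Fin n) (Fin n) F, orderOf M = 2 ^ (t + 1) := by
  have hmon : (X ^ n : F[X]).Monic := monic_X_pow n
  have hnt : Nontrivial (AdjoinRoot (X ^ n : F[X])) := by
    apply AdjoinRoot.nontrivial
    rw [degree_X_pow]
    rw [hn]
    exact_mod_cast Nat.succ_ne_zero (2 ^ t)
  have hch : CharP (AdjoinRoot (X ^ n : F[X])) 2 :=
    charP_of_injective_algebraMap (algebraMap F (AdjoinRoot (X ^ n : F[X]))).injective 2
  have := Fact.mk Nat.prime_two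
  let x : AdjoinRoot (X ^ n : F[X]) := AdjoinRoot.mk _ X
  have hxn : ∀ j, x ^ j = 0 ↔ n ≤ j := by
    intro j
    have h1 : x ^ j = AdjoinRoot.mk (X ^ n : F[X]) (X ^ j) := (map_pow _ _ _).symm
    rw [h1, AdjoinRoot.mk_eq_zero]
    exact pow_dvd_pow_iff X_ne_zero not_isUnit_X
  have hord : orderOf (1 + x) = 2 ^ (t + 1) := by
    apply orderOf_eq_prime_pow
    · rw [add_pow_char_pow, one_pow]
      intro h
      have h1 : x ^ 2 ^ t = 0 := by
        have := congrArg (fun z => z - 1) h
        simpa using this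
      rw [hxn] at h1
      omega
    · rw [add_pow_char_pow, one_pow, (hxn _).2, add_zero]
      rw [hn, pow_succ]
      have := Nat.one_le_two_pow (n := t)
      omega
  let pb := AdjoinRoot.powerBasis' hmon
  have hdim : pb.dim = n := by
    rw [AdjoinRoot.powerBasis'_dim, natDegree_X_pow]
  have h1 : orderOf (Algebra.leftMulMatrix pb.basis (1 + x)) = 2 ^ (t + 1) := by
    rw [← hord]
    exact orderOf_injective (Algebra.leftMulMatrix pb.basis).toRingHom.toMonoidHom
      (Algebra.leftMulMatrix_injective pb.basis) _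
  refine ⟨Matrix.reindexAlgEquiv F F (finCongr hdim) (Algebra.leftMulMatrix pb.basis (1 + x)), ?_⟩
  rw [← h1]
  exact orderOf_injective (Matrix.reindexAlgEquiv F F (finCongr hdim)).toRingEquiv.toMonoidHom
    (Matrix.reindexAlgEquiv F F (finCongr hdim)).injective _

/-- the action on `Multiplicative V` -/
def mact {L : Type*} [Group L] {V : Type*} [AddCommGroup V] (φ : L →* AddMonoid.End V) :
    L →* MulAut (Multiplicative V) where
  toFun g :=
    { toFun := fun v => Multiplicative.ofAdd (φ g v.toAdd)
      invFun := fun v => Multiplicative.ofAdd (φ g⁻¹ v.toAdd)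
      left_inv := fun v => by
        change Multiplicative.ofAdd (φ g⁻¹ (φ g v.toAdd)) = v
        have h : (φ g⁻¹ * φ g) v.toAdd = v.toAdd := by rw [← map_mul, inv_mul_cancel, map_one]; rfl
        exact congrArg Multiplicative.ofAdd h
      right_inv := fun v => by
        change Multiplicative.ofAdd (φ g (φ g⁻¹ v.toAdd)) = v
        have h : (φ g * φ g⁻¹) v.toAdd = v.toAdd := by rw [← map_mul, mul_inv_cancel, map_one]; rfl
        exact congrArg Multiplicative.ofAdd h
      map_mul' := fun v w => congrArg Multiplicative.ofAdd (map_add (φ g) _ _) }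
  map_one' := by
    apply MulEquiv.ext
    intro v
    change Multiplicative.ofAdd (φ 1 v.toAdd) = v
    rw [map_one]; rfl
  map_mul' g h := by
    apply MulEquiv.ext
    intro v
    change Multiplicative.ofAdd (φ (g * h) v.toAdd) = Multiplicative.ofAdd (φ g (φ h v.toAdd))
    rw [map_mul]; rfl

theorem mact_prod {L : Type*} [Group L] {V : Type*} [AddCommGroup V] (φ : L →* AddMonoid.End V) {ι : Type*}
    (s : Finset ι) (f : ι → L) (v : Multiplicative V) :
    ∏ i ∈ s, mact φ (f i) v = Multiplicative.ofAdd (∑ i ∈ s, φ (f i) v.toAdd) := by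
  classical
  induction s using Finset.induction_on with
  | empty => rw [prod_empty, sum_empty]; rfl
  | insert a s ha ih =>
    rw [prod_insert ha, sum_insert ha, ih]; rfl

/-- **Covers of `PSL_n(2^k)`, `n = 2 ^ t + 1 ≥ 5`.** -/
theorem cov {F : Type v} [Field F] [Fintype F] {n k t : ℕ} (hF : Fintype.card F = 2 ^ k) (ht : 2 ≤ t)
    (hn : n = 2 ^ t + 1) : Cov.{v, w} (Matrix.ProjectiveSpecialLinearGroup (Fin n) F) := by
  classical
  intro p hp V _ _ _ hV φ
  have h4 : 2 ^ 2 ≤ 2 ^ t := Nat.pow_le_pow_right (by norm_num) ht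
  have hk1 : k ≠ 0 := by
    rintro rfl
    have := Fintype.one_lt_card (α := F)
    rw [hF] at this
    simp at this
  have hch : CharP F 2 := by
    have := Fact.mk Nat.prime_two
    exact charP_of_card_eq_prime_pow (p := 2) (f := k) hF
  have hk := two_le_of_char hF
  have hqe := even_card hk hF
  obtain ⟨w, hw, hwo⟩ := Cfsg.Agent.H373.C2.exists_prime (e := (n - 1) * k) (by
    rw [hn, Nat.add_sub_cancel]; nlinarith) (by
    rw [hn, Nat.add_sub_cancel]
    intro h
    have h5 : 2 ^ 2 ∣ 2 ^ t := pow_dvd_pow 2 ht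
    have h6 := h5.trans (Dvd.intro k h)
    omega)
  have hwo' : orderOf ((Fintype.card F : ℕ) : ZMod w) = n - 1 := by
    rw [hF, ord_mod _ _ hk1 hwo, Nat.gcd_mul_left_left, Nat.mul_div_cancel _ (by omega)]
  have hw2 := ne_two_of_index hqe (by omega) hwo'
  have hw1 := not_dvd_of_index (by omega) hwo'
  by_cases h2 : p = 2
  · subst h2
    have hm2 : n = 2 * 2 ^ (t - 1) + 1 := by rw [hn, ← pow_succ', Nat.sub_add_cancel (by omega)]
    have hm0 : 1 ≤ 2 ^ (t - 1) := Nat.one_le_two_pow
    generalize 2 ^ (t - 1) = m at hm2 hm0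
    have hwd : w ∣ Fintype.card F ^ m + 1 := by
      rw [hF, ← pow_mul]
      have h1 : w ∣ 2 ^ ((n - 1) * k) - 1 := (dvd_of_ord hwo).2 dvd_rfl
      have h2 : 2 ^ ((n - 1) * k) - 1 = (2 ^ (k * m) + 1) * (2 ^ (k * m) - 1) := by
        have := Nat.sq_sub_sq (2 ^ (k * m)) 1
        rw [one_pow, ← pow_mul] at this
        rw [← this]
        congr 2
        rw [hm2, Nat.add_sub_cancel]; ring
      rw [h2] at h1
      refine (hw.dvd_mul.1 h1).resolve_right ?_
      rw [dvd_of_ord hwo]
      intro h3
      have h5 := Nat.le_of_dvd (Nat.mul_pos hk hm0) h3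
      rw [hm2, Nat.add_sub_cancel] at h5
      nlinarith [Nat.mul_pos hk hm0]
    clear hn
    subst hm2
    obtain ⟨x, hx, v, hv, hxv⟩ := Cfsg.Agent.H594.CoverPsl.exists_fixed_psl_two hm0
      (fun v => by rw [← two_nsmul]; exact hV v) φ hw hw2 hwd
    refine ⟨x, v, sum_ne_zero_of_fixed Nat.prime_two hV φ hv hxv ?_, ?_⟩
    · rw [hx]
      intro h
      exact hw2 ((Nat.prime_dvd_prime_iff_eq Nat.prime_two hw).1 h).symm
    · rw [hx]
      exact not_two (F := F) (by omega) hqe hw (Or.inr hwo')
  · obtain ⟨U, c, hc, hU, hn', hfix⟩ := Cfsg.Agent.H350.PslFrob.frob_psl (F := F) (n := n) (by omega)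
    by_cases hnorm : ∀ v : Multiplicative V, ∏ i ∈ range (orderOf c), mact φ (c ^ i) v = 1
    · -- `U` acts trivially
      have hq1 : 1 < Fintype.card F := Fintype.one_lt_card
      have htriv := Cfsg.Agent.H371.Frob.trivial_of_norm (mact φ) U (c := c) (e := p) (orderOf_pos c) (by
          intro a ha i
          have h1 : ∀ a ∈ U, ∀ i : ℕ, c ^ i * a * (c ^ i)⁻¹ ∈ U := by
            intro a ha i
            induction i with
            | zero => simpa using ha
            | succ i ih =>
              have h1 := hn' _ ih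
              convert h1 using 1
              rw [pow_succ']; group
          have h2 : (c ^ i)⁻¹ = c ^ ((orderOf c - 1) * i) := by
            rw [inv_eq_iff_mul_eq_one, ← pow_add]
            have h3 : i + (orderOf c - 1) * i = orderOf c * i := by
              have := orderOf_pos c
              obtain ⟨m, hm⟩ : ∃ m, orderOf c = m + 1 := ⟨orderOf c - 1, by omega⟩
              rw [hm, Nat.add_sub_cancel]; ring
            rw [h3, pow_mul, pow_orderOf_eq_one, one_pow]
          have h3 := h1 a ha ((orderOf c - 1) * i)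
          rwa [← h2, inv_inv] at h3) hfix (fun v => by
          change Multiplicative.ofAdd (p • v.toAdd) = 1
          rw [hV]; rfl) (by
          rw [hU]
          refine Nat.Coprime.pow_left _ ?_
          rw [hF]
          refine Nat.Coprime.pow_left _ ?_
          exact (Nat.coprime_primes Nat.prime_two hp).2 (Ne.symm h2)) hnorm
      have hsimp := Cfsg.Agent.S0249.result (F := F) n (by omega)
      have hker : φ.ker = ⊤ := by
        rcases hsimp.eq_bot_or_eq_top_of_normal φ.ker inferInstance with h | h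
        · exfalso
          have h1 : U = ⊥ := by
            rw [eq_bot_iff]
            intro u hu
            have h2 : u ∈ φ.ker := by
              rw [MonoidHom.mem_ker]
              apply AddMonoidHom.ext
              intro v
              exact htriv u hu (Multiplicative.ofAdd v)
            rwa [h] at h2
          rw [h1, Subgroup.card_bot] at hU
          have := Nat.one_lt_pow (n := n - 1) (by omega) hq1
          omega
        · exact h
      obtain ⟨M, hM⟩ := exists_unip (F := F) hn
      obtain ⟨B, -, hB⟩ := exists_pr (F := F) (by positivity) hM (by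
        refine Nat.Coprime.pow_left _ ?_
        rw [Nat.coprime_two_left]
        have h3 : 2 ∣ Fintype.card F := hqe
        rw [Nat.odd_iff]
        omega)
      obtain ⟨v, hv⟩ := exists_ne (0 : V)
      refine ⟨_, v, sum_ne_zero_of_fixed hp hV φ hv (x := pr B) ?_ ?_, ?_⟩
      · have h1 : pr B ∈ φ.ker := by rw [hker]; trivial
        rw [MonoidHom.mem_ker] at h1
        rw [h1]; rfl
      · rw [hB]
        intro h
        exact h2 ((Nat.prime_dvd_prime_iff_eq hp Nat.prime_two).1 (hp.dvd_of_dvd_pow h))
      · rw [hB]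
        exact no_top hn ht (even_iff_two_dvd.2 hqe) (hp.odd_of_ne_two h2) hp.one_lt.ne'
    · push Not at hnorm
      obtain ⟨v, hv⟩ := hnorm
      rw [mact_prod] at hv
      refine ⟨c, v.toAdd, fun h => hv (by rw [h]; rfl), ?_⟩
      rintro ⟨y, hy⟩
      set d := Nat.gcd n (Fintype.card F - 1) with hd
      have hq1 : 1 < Fintype.card F := Fintype.one_lt_card
      have hdd : d ∣ Fintype.card F ^ (n - 1) - 1 :=
        (Nat.gcd_dvd_right _ _).trans (Nat.sub_one_dvd_pow_sub_one _ _)
      have hmul : orderOf c * d = Fintype.card F ^ (n - 1) - 1 := by rw [hc, Nat.div_mul_cancel hdd]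
      have hwq : w ∣ Fintype.card F ^ (n - 1) - 1 := by
        have h1 : w ∣ 2 ^ ((n - 1) * k) - 1 := (dvd_of_ord hwo).2 dvd_rfl
        rwa [hF, ← pow_mul, mul_comm k]
      have hwc : w ∣ orderOf c := by
        rw [← hmul] at hwq
        refine (hw.dvd_mul.1 hwq).resolve_right fun h => hw1 (h.trans (Nat.gcd_dvd_right _ _))
      have h3 := pred (F := F) (n := n) (by omega) hw hwo' y (by rw [hy]; exact hwc.mul_left _)
      rw [hy, ← hd, mul_assoc, hmul] at h3
      have h5 : 0 < Fintype.card F ^ (n - 1) - 1 := by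
        have := Nat.one_lt_pow (n := n - 1) (by omega) hq1
        omega
      have h6 := Nat.le_of_dvd h5 h3
      have := hp.two_le
      nlinarith

end Cfsg.Agent.H350.PslCov
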