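import Cfsg.Agent.H350.Spec.PslOutB
import Cfsg.Agent.H202.Descent
import Cfsg.Agent.H376.SpEmb
import Cfsg.Agent.H321.SpecEven.LFacts
import Cfsg.Agent.H403.LinChar
import Cfsg.Agent.H373.C2
import Cfsg.Agent.H373.Recog

/-!
# Outer automorphisms of `PSL_n(q)`, `q` even, `n = 2 ^ t + 1` (helper350, for S3458)
-/

set_option autoImplicit false
set_option linter.unusedSectionVars false

namespace Cfsg.Agent.H350.PslOut

open Matrix
open Cfsg.Agent.H199.PslAut
open Cfsg.Agent.ClassicalGeometry.AutPSL.Root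
open Cfsg.Agent.ClassicalGeometry.AutPSL.Auto

/-! ### field automorphisms -/

section frob

variable {F : Type*} [Field F] [Fintype F] {k : ℕ}

/-- field automorphisms are powers of Frobenius (helper414) -/
theorem exists_frob {F : Type*} [Field F] [Finite F] {p : ℕ} [Fact p.Prime] [CharP F p]
    (σ : F ≃+* F) : ∃ i : ℕ, ∀ a, σ a = a ^ p ^ i := by
  let _ : Algebra (ZMod p) F := ZMod.algebra F p
  have hcomm : ∀ r : ZMod p, σ (algebraMap (ZMod p) F r) = algebraMap (ZMod p) F r := by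
    intro r
    obtain ⟨n, rfl⟩ := ZMod.natCast_zmod_surjective r
    rw [map_natCast, map_natCast]
  obtain ⟨i, hi⟩ := (FiniteField.bijective_frobeniusAlgEquivOfAlgebraic_pow (ZMod p) F).2
    (AlgEquiv.ofRingEquiv (f := σ) hcomm)
  refine ⟨i, fun a => ?_⟩
  have h1 := DFunLike.congr_fun hi a
  have h3 : (AlgEquiv.ofRingEquiv (f := σ) hcomm) a = σ a := rfl
  rw [← h3, ← h1]
  have h5 : ∀ j : ℕ, ((FiniteField.frobeniusAlgEquivOfAlgebraic (ZMod p) F) ^ j) a = a ^ p ^ j := by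
    intro j
    induction j with
    | zero => simp
    | succ j ih =>
      rw [pow_succ', AlgEquiv.mul_apply, ih, FiniteField.coe_frobeniusAlgEquivOfAlgebraic]
      simp only [ZMod.card]
      rw [← pow_mul, pow_succ]
  exact h5 i

theorem dvd_of_fix (hF : Fintype.card F = 2 ^ k) {j : ℕ} (hj : ∀ a : F, a ^ 2 ^ j = a) : k ∣ j := by
  obtain ⟨z, hz⟩ := IsCyclic.exists_ofOrder_eq_natCard (α := Fˣ)
  rw [Nat.card_units, Nat.card_eq_fintype_card, hF] at hz
  have h0 : 1 ≤ 2 ^ j := Nat.one_le_two_pow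
  have h1 : z ^ (2 ^ j - 1) = 1 := by
    have h2 : z ^ 2 ^ j = z := by
      apply Units.ext
      rw [Units.val_pow_eq_pow_val, hj]
    have h3 : z ^ (2 ^ j - 1) * z = z := by rw [← pow_succ, Nat.sub_add_cancel h0, h2]
    exact mul_eq_right.1 h3
  have h2 := orderOf_dvd_of_pow_eq_one h1
  rw [hz] at h2
  have h3 : Nat.gcd (2 ^ k - 1) (2 ^ j - 1) = 2 ^ (Nat.gcd k j) - 1 := Nat.pow_sub_one_gcd_pow_sub_one 2 k j
  rw [Nat.gcd_eq_left h2] at h3
  have h5 : 1 ≤ 2 ^ k := Nat.one_le_two_pow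
  have h6 : 1 ≤ 2 ^ Nat.gcd k j := Nat.one_le_two_pow
  have h7 : 2 ^ k = 2 ^ Nat.gcd k j := by omega
  have h8 : k = Nat.gcd k j := Nat.pow_right_injective le_rfl h7
  rw [h8]
  exact Nat.gcd_dvd_right k j

/-- a power of a field automorphism of prime order `s` is `a ↦ a ^ (2 ^ k₀)`, `k = k₀ s` -/
theorem exists_normalize [CharP F 2] (hF : Fintype.card F = 2 ^ k) {σ : F ≃+* F} {s : ℕ} (hs : s.Prime)
    (hσ : orderOf σ = s) :
    ∃ k₀ j : ℕ, 1 ≤ k₀ ∧ k = k₀ * s ∧ (∀ a, (σ ^ j) a = a ^ 2 ^ k₀) ∧ orderOf (σ ^ j) = s := by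
  have : Fact (Nat.Prime 2) := ⟨Nat.prime_two⟩
  obtain ⟨i, hi⟩ := exists_frob (p := 2) σ
  have hk0 : k ≠ 0 := by
    rintro rfl
    have := Fintype.one_lt_card (α := F)
    rw [hF] at this
    simp at this
  have hpow : ∀ (l : ℕ) (a : F), (σ ^ l) a = a ^ 2 ^ (i * l) := fun l a => by
    rw [sigma_pow hi, ← pow_mul]
  have hfrob : ∀ a : F, a ^ 2 ^ k = a := fun a => by rw [← hF]; exact FiniteField.pow_card a
  have hfrob2 : ∀ (l : ℕ) (a : F), a ^ 2 ^ (k * l) = a := by
    intro l a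
    induction l with
    | zero => simp
    | succ l ih => rw [Nat.mul_succ, pow_add, pow_mul, ih, hfrob]
  have hσs : σ ^ s = 1 := by rw [← hσ]; exact pow_orderOf_eq_one σ
  have h1 : k ∣ i * s := dvd_of_fix hF fun a => by rw [← hpow, hσs]; rfl
  have h2 : ¬ k ∣ i := by
    rintro ⟨l, hl⟩
    have h3 : σ = 1 := by
      apply RingEquiv.ext
      intro a
      rw [hi, hl, hfrob2]
      rfl
    rw [h3, orderOf_one] at hσ
    exact hs.one_lt.ne hσ
  set c := Nat.gcd k i with hc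
  have hc0 : 0 < c := Nat.gcd_pos_of_pos_left _ (by omega)
  obtain ⟨k', hk'⟩ := Nat.gcd_dvd_left k i
  obtain ⟨i', hi'⟩ := Nat.gcd_dvd_right k i
  rw [← hc] at hk' hi'
  have hcop : Nat.Coprime k' i' := by
    have h3 : c * Nat.gcd k' i' = c * 1 := by rw [← Nat.gcd_mul_left, ← hk', ← hi', mul_one]
    exact Nat.eq_of_mul_eq_mul_left hc0 h3
  have h3 : k' ∣ s := by
    rw [hk', hi', mul_assoc] at h1
    exact hcop.dvd_of_dvd_mul_left (Nat.dvd_of_mul_dvd_mul_left hc0 h1)
  have h4 : k' = s := by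
    rcases (Nat.dvd_prime hs).1 h3 with h | h
    · exfalso
      apply h2
      rw [hk', h, mul_one]
      exact ⟨i', hi'⟩
    · exact h
  subst h4
  obtain ⟨j, -, hj⟩ := Nat.exists_mul_mod_eq_one_of_coprime hcop.symm hs.one_lt
  have h5 : ∀ a, (σ ^ j) a = a ^ 2 ^ c := by
    intro a
    rw [hpow]
    have h6 : i * j = k * (i' * j / k') + c := by
      have h7 := Nat.div_add_mod (i' * j) k'
      rw [hj] at h7
      calc i * j = c * (i' * j) := by rw [hi']; ring
        _ = c * (k' * (i' * j / k') + 1) := by rw [h7]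
        _ = (c * k') * (i' * j / k') + c := by ring
        _ = k * (i' * j / k') + c := by rw [← hk']
    rw [h6, pow_add, pow_mul, hfrob2]
  refine ⟨c, j, hc0, hk', h5, ?_⟩
  refine orderOf_eq_prime (p := k') (hp := ⟨hs⟩) ?_ ?_
  · rw [← pow_mul, mul_comm, pow_mul, hσs, one_pow]
  · intro h
    have h6 : k ∣ c := dvd_of_fix hF fun a => by rw [← h5, h]; rfl
    have h7 := Nat.le_of_dvd hc0 h6
    have h8 := hs.two_le
    nlinarith

end frob

section elements

variable {F : Type*} [Field F] [Fintype F] {n : ℕ}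

/-- the group element of a matrix -/
theorem exists_pr {M : Matrix (Fin n) (Fin n) F} {N : ℕ} (hN0 : 0 < N) (ho : orderOf M = N)
    (hN : Nat.Coprime N (Fintype.card F - 1)) :
    ∃ A : Matrix.SpecialLinearGroup (Fin n) F, (A : Matrix (Fin n) (Fin n) F) = M ∧ orderOf (pr A) = N := by
  have hMN : M ^ N = 1 := by rw [← ho]; exact pow_orderOf_eq_one M
  have hdN : M.det ^ N = 1 := by rw [← Matrix.det_pow, hMN, Matrix.det_one]
  have hd0 : M.det ≠ 0 := by
    intro h0
    rw [h0, zero_pow hN0.ne'] at hdN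
    exact zero_ne_one hdN
  have hd : M.det = 1 := by
    have h1 : Units.mk0 M.det hd0 = 1 := eq_one_of_coprime hN (Units.ext (by simpa using hdN)) (units_pow_card _)
    exact congrArg Units.val h1
  let A : Matrix.SpecialLinearGroup (Fin n) F := ⟨M, hd⟩
  have hA : orderOf A = N := by
    rw [← ho, orderOf_eq_orderOf_iff]
    intro j
    constructor
    · intro h
      have h1 : ((A ^ j : Matrix.SpecialLinearGroup (Fin n) F) : Matrix (Fin n) (Fin n) F) = 1 := by rw [h]; rfl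
      rwa [Matrix.SpecialLinearGroup.coe_pow] at h1
    · intro h
      apply Subtype.ext
      rw [Matrix.SpecialLinearGroup.coe_pow]
      exact h
  exact ⟨A, rfl, by rw [orderOf_pr _ (by rw [hA]; exact hN), hA]⟩

/-- elements defined over a subfield -/
theorem exists_fixed {F₀ : Type*} [Field F₀] (j : F₀ →+* F) {σ : F ≃+* F} (hj : ∀ b, σ (j b) = j b)
    {M : Matrix (Fin n) (Fin n) F₀} {N : ℕ} (hN0 : 0 < N) (ho : orderOf M = N)
    (hN : Nat.Coprime N (Fintype.card F - 1)) : ∃ h, phi n F σ h = h ∧ orderOf h = N := by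
  have h1 : orderOf (M.map j) = N := by
    rw [← ho]
    exact orderOf_injective (j.mapMatrix : Matrix (Fin n) (Fin n) F₀ →+* Matrix (Fin n) (Fin n) F).toMonoidHom
      (Matrix.map_injective j.injective) M
  obtain ⟨A, hA, hAo⟩ := exists_pr hN0 h1 hN
  refine ⟨pr A, ?_, hAo⟩
  rw [phi_pr]
  congr 1
  apply Subtype.ext
  ext a b
  rw [coe_fld_apply, hA, Matrix.map_apply, hj]

/-- the automorphism `X ↦ g X⁻ᵀ g⁻¹` and the isometries of `g` -/
theorem psi_iot_fix {g : GL (Fin n) F} {B : Matrix.SpecialLinearGroup (Fin n) F}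
    (h : (B : Matrix (Fin n) (Fin n) F) * g * (B : Matrix (Fin n) (Fin n) F)ᵀ = g) :
    (Psi n F g * iot n F) (pr B) = pr B := by
  rw [MulAut.mul_apply, iot_pr, Psi_pr]
  congr 1
  apply Subtype.ext
  rw [coe_cj, coe_itr]
  have h1 : (B : Matrix (Fin n) (Fin n) F)ᵀ * ((B⁻¹ : Matrix.SpecialLinearGroup (Fin n) F) : Matrix (Fin n) (Fin n) F)ᵀ = 1 := by
    rw [← transpose_mul, ← Matrix.SpecialLinearGroup.coe_mul, inv_mul_cancel, Matrix.SpecialLinearGroup.coe_one,
      transpose_one]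
  have h2 : (g : Matrix (Fin n) (Fin n) F) * ((B⁻¹ : Matrix.SpecialLinearGroup (Fin n) F) : Matrix (Fin n) (Fin n) F)ᵀ =
      (B : Matrix (Fin n) (Fin n) F) * g := by
    nth_rw 1 [← h]
    rw [mul_assoc, h1, mul_one]
  rw [h2, mul_assoc]
  change (B : Matrix (Fin n) (Fin n) F) * (((g : GL (Fin n) F) : Matrix (Fin n) (Fin n) F) * ((g⁻¹ : GL (Fin n) F) : Matrix (Fin n) (Fin n) F)) = _
  rw [← Units.val_mul, mul_inv_cancel, Units.val_one, mul_one]

end elements

section upper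

open Cfsg.Agent.H403 Cfsg.Agent.H403.NumTop Cfsg.Agent.H321.SpecEven

variable {F : Type*} [Field F] [Fintype F] {n : ℕ}

theorem card_true {q : ℕ} (h : Fintype.card F = q) : Fintype.card F = q ^ (cond true 0 1 + 1) := by
  rw [h]; simp

theorem lin_true (hn : 3 ≤ n) : Lin (AlgebraicClosure F) (Matrix.ProjectiveSpecialLinearGroup (Fin n) F) true n
    (Fintype.card F) F :=
  IsL.lin (e := true) ⟨MulEquiv.refl _⟩ (card_true rfl) hn

theorem AA_true_one (q : ℕ) : AA true 1 q = q - 1 := by simp [AA]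

/-- elements of order divisible by a prime of index `n - 1` -/
theorem pred (hn : 3 ≤ n) {w : ℕ} (hw : w.Prime) (hwo : orderOf ((Fintype.card F : ℕ) : ZMod w) = n - 1)
    (g : Matrix.ProjectiveSpecialLinearGroup (Fin n) F) (hg : w ∣ orderOf g) :
    orderOf g * Nat.gcd n (Fintype.card F - 1) ∣ Fintype.card F ^ (n - 1) - 1 := by
  have h1 := pred_dvd (lin_true (F := F) hn) (card_true rfl) hn hw (by
    change orderOf (((Fintype.card F : ℤ) : ℤ) : ZMod w) = n - 1
    rw [Int.cast_natCast]; exact hwo) (orderOf_pos g) hg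
  rw [AA_true_one] at h1
  simpa [AA] using h1

/-- the primes of index `n`, `n - 1` are not joined to 2 -/
theorem not_two (hn : 3 ≤ n) (hq : 2 ∣ Fintype.card F) {w : ℕ} (hw : w.Prime)
    (hwo : orderOf ((Fintype.card F : ℕ) : ZMod w) = n ∨ orderOf ((Fintype.card F : ℕ) : ZMod w) = n - 1) :
    ¬ ∃ g : Matrix.ProjectiveSpecialLinearGroup (Fin n) F, orderOf g = 2 * w := by
  have h1 := Lin.not_adj_char (lin_true (F := F) hn) (card_true rfl) Nat.prime_two hq hn hw
    (i := orderOf ((Fintype.card F : ℕ) : ZMod w)) (by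
      change orderOf (((Fintype.card F : ℤ) : ℤ) : ZMod w) = _
      rw [Int.cast_natCast]) hwo
  rwa [mul_comm] at h1

/-- no elements of order `s 2 ^ (t + 1)` -/
theorem no_top {t : ℕ} (hn : n = 2 ^ t + 1) (ht : 2 ≤ t) (hq : Even (Fintype.card F)) {s : ℕ} (hs : Odd s) (hs1 : s ≠ 1) :
    ¬ ∃ g : Matrix.ProjectiveSpecialLinearGroup (Fin n) F, orderOf g = s * 2 ^ (t + 1) := by
  have h4 : 2 ^ 2 ≤ 2 ^ t := Nat.pow_le_pow_right (by norm_num) ht
  have h1 := two_top (lin_true (F := F) (n := n) (by omega)) (card_true rfl) hq (by omega) (a := t) (w := s) (by omega) hs hs1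
  rwa [mul_comm] at h1

end upper

section main

variable {F : Type*} [Field F] [Fintype F] {n k t : ℕ}
variable {Y : Subgroup (MulAut (Matrix.ProjectiveSpecialLinearGroup (Fin n) F))}

theorem ord_mod {w : ℕ} (m i : ℕ) (hi : i ≠ 0) (h : orderOf (2 : ZMod w) = m) :
    orderOf ((2 ^ i : ℕ) : ZMod w) = m / Nat.gcd m i := by
  push_cast
  rw [orderOf_pow' _ hi, h]

theorem dvd_of_ord {w m i : ℕ} (h : orderOf (2 : ZMod w) = m) : w ∣ 2 ^ i - 1 ↔ m ∣ i := by
  rw [← h, orderOf_dvd_iff_pow_eq_one, ← ZMod.natCast_eq_zero_iff, Nat.cast_sub Nat.one_le_two_pow,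
    Nat.cast_pow, Nat.cast_one, sub_eq_zero, Nat.cast_ofNat]

theorem even_card (hk : 1 ≤ k) (hF : Fintype.card F = 2 ^ k) : 2 ∣ Fintype.card F := by
  rw [hF]; exact dvd_pow_self 2 (by omega)

/-- **No field automorphisms.** -/
theorem no_field [CharP F 2] (hF : Fintype.card F = 2 ^ k) (ht : 2 ≤ t) (hn : n = 2 ^ t + 1) (hinn : ∀ a, MulAut.conj a ∈ Y)
    (hω : ∀ y ∈ Y, ∃ g : Matrix.ProjectiveSpecialLinearGroup (Fin n) F, orderOf g = orderOf y)
    {g : GL (Fin n) F} {σ : F ≃+* F} (hY : Psi n F g * phi n F σ ∈ Y) : σ = 1 := by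
  classical
  by_contra hσ1
  have h4 : 2 ^ 2 ≤ 2 ^ t := Nat.pow_le_pow_right (by norm_num) ht
  have hfin : Finite (F ≃+* F) := Finite.of_injective (fun σ => (σ : F → F)) DFunLike.coe_injective
  obtain ⟨s, hs, c, hc⟩ := Nat.exists_prime_and_dvd (fun h => hσ1 (orderOf_eq_one_iff.1 h) : orderOf σ ≠ 1)
  have hc0 : c ≠ 0 := by
    rintro rfl
    rw [mul_zero] at hc
    exact (orderOf_pos σ).ne' hc
  have ho : orderOf (σ ^ c) = s := by
    rw [orderOf_pow_of_dvd hc0 (by rw [hc]; exact dvd_mul_left _ _), hc, Nat.mul_div_cancel _ (Nat.pos_of_ne_zero hc0)]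
  obtain ⟨k₀, j, hk₀, hk, hj, hjo⟩ := exists_normalize hF hs ho
  rw [← pow_mul] at hj hjo
  set τ := σ ^ (c * j) with hτ
  -- powers
  have hpow : ∀ i : ℕ, ∃ g' : GL (Fin n) F, (Psi n F g * phi n F σ) ^ i = Psi n F g' * phi n F (σ ^ i) := by
    intro i
    induction i with
    | zero => exact ⟨1, by rw [pow_zero, pow_zero, map_one, map_one, mul_one]⟩
    | succ i ih =>
      obtain ⟨g', hg'⟩ := ih
      exact ⟨g' * mapGL (σ ^ i) g, by
        rw [pow_succ, hg', mul_assoc, ← mul_assoc (phi n F (σ ^ i)), phi_mul_Psi, mul_assoc (Psi n F (mapGL (σ ^ i) _)),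
          ← map_mul (phi n F), ← mul_assoc, ← map_mul (Psi n F), ← pow_succ]⟩
  obtain ⟨g', hg'⟩ := hpow (c * j)
  have hY' : Psi n F g' * phi n F τ ∈ Y := by rw [← hg']; exact Y.pow_mem hY _
  -- arithmetic
  have hq0 : 2 ≤ 2 ^ k₀ := by
    calc 2 = 2 ^ 1 := rfl
      _ ≤ 2 ^ k₀ := Nat.pow_le_pow_right (by norm_num) hk₀
  have hFq : Fintype.card F = (2 ^ k₀) ^ s := by rw [hF, hk, pow_mul]
  have hq0e : Even (2 ^ k₀) := (Nat.even_pow.2 ⟨even_two, by omega⟩)
  have hk1 : 1 ≤ k := by rw [hk]; exact Nat.mul_pos hk₀ hs.pos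
  have hqe := even_card hk1 hF
  have hodd : ¬ 2 ∣ Fintype.card F - 1 := by
    have : 1 < Fintype.card F := Fintype.one_lt_card
    omega
  have hcop2 : ∀ i : ℕ, Nat.Coprime (2 ^ i) (Fintype.card F - 1) := fun i =>
    Nat.Coprime.pow_left i ((Nat.Prime.coprime_iff_not_dvd Nat.prime_two).2 hodd)
  have hNq : Nat.Coprime (n - 1) (Fintype.card F - 1) := by
    rw [hn, Nat.add_sub_cancel]; exact hcop2 t
  obtain ⟨j₀, hj₀⟩ := H202.Descent.exists_hom (F₀ := GaloisField 2 k₀) hjo hs.pos (by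
    rw [Nat.card_eq_fintype_card, hFq, GaloisField.card 2 k₀ (by omega)])
  have hj₀' : ∀ b, τ (j₀ b) = j₀ b := fun b => (hj₀ (j₀ b)).2 ⟨b, rfl⟩
  have : Finite (GaloisField 2 k₀) := inferInstance
  let _ : Fintype (GaloisField 2 k₀) := Fintype.ofFinite _
  have hF₀ : Fintype.card (GaloisField 2 k₀) = 2 ^ k₀ := by
    rw [← Nat.card_eq_fintype_card, GaloisField.card 2 k₀ (by omega)]
  have hnodd : Nat.Coprime n 2 := by
    rw [hn, Nat.coprime_comm, Nat.coprime_two_left]
    exact (Nat.even_pow.2 ⟨even_two, by omega⟩).add_one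
  -- the prime `w` of index `n - 1`
  obtain ⟨w, hw, hwo, hBex⟩ : ∃ w : ℕ, w.Prime ∧ orderOf ((Fintype.card F : ℕ) : ZMod w) = n - 1 ∧
      (s ∣ 2 ^ k₀ - 1 → ∃ B : GL (Fin (n - 1)) F, mapGL τ B = B ∧ orderOf B = w ∧ Matrix.GeneralLinearGroup.det B = 1) := by
    by_cases hs2 : s = 2
    · obtain ⟨w, hw, hwo⟩ := Cfsg.Agent.H373.C2.exists_prime (e := (n - 1) * k) (by
        rw [hn, Nat.add_sub_cancel]; nlinarith) (by
        rw [hn, Nat.add_sub_cancel]
        intro h
        have h5 : 2 ^ 2 ∣ 2 ^ t := pow_dvd_pow 2 ht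
        have h6 := h5.trans (Dvd.intro k h)
        omega)
      refine ⟨w, hw, ?_, fun h => ?_⟩
      · rw [hF, ord_mod _ _ (by omega) hwo, Nat.gcd_mul_left_left, Nat.mul_div_cancel _ (by omega)]
      · exfalso
        rw [hs2] at h
        have h5 : 2 ∣ 2 ^ k₀ := dvd_pow_self 2 (by omega)
        omega
    · have hsodd : Odd s := hs.odd_of_ne_two hs2
      obtain ⟨w, hw, hwo⟩ := Cfsg.Agent.H373.C2.exists_prime (e := (n - 1) * k₀) (by
        rw [hn, Nat.add_sub_cancel]; nlinarith) (by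
        rw [hn, Nat.add_sub_cancel]
        intro h
        have h5 : 2 ^ 2 ∣ 2 ^ t := pow_dvd_pow 2 ht
        have h6 := h5.trans (Dvd.intro k₀ h)
        omega)
      have hsn : Nat.Coprime (n - 1) s := by
        rw [hn, Nat.add_sub_cancel]
        exact Nat.Coprime.pow_left t (Nat.coprime_two_left.2 hsodd)
      have hwo' : orderOf ((Fintype.card F : ℕ) : ZMod w) = n - 1 := by
        rw [hF, ord_mod _ _ (by omega) hwo, hk, mul_comm k₀ s, Nat.gcd_mul_right, hsn, one_mul,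
          Nat.mul_div_cancel _ (by omega)]
      refine ⟨w, hw, hwo', fun _ => ?_⟩
      have hwq1 : ¬ w ∣ Fintype.card F - 1 := by
        intro h
        have h1 : 1 < Fintype.card F := Fintype.one_lt_card
        rw [← ZMod.natCast_eq_zero_iff, Nat.cast_sub (by omega), Nat.cast_one, sub_eq_zero] at h
        rw [h, orderOf_one] at hwo'
        omega
      obtain ⟨M, hM⟩ := H403.exists_mat_lin (F := GaloisField 2 k₀) (i := n - 1) (N := w) hF₀ (by omega) (by
        rw [← pow_mul, dvd_of_ord hwo, mul_comm])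
      have hMo : orderOf (M.map j₀) = w := by
        rw [← hM]
        exact orderOf_injective (j₀.mapMatrix : Matrix (Fin (n - 1)) (Fin (n - 1)) (GaloisField 2 k₀) →+*
          Matrix (Fin (n - 1)) (Fin (n - 1)) F).toMonoidHom (Matrix.map_injective j₀.injective) M
      obtain ⟨A, hA, -⟩ := exists_pr (F := F) hw.pos hMo ((Nat.Prime.coprime_iff_not_dvd hw).2 hwq1)
      refine ⟨(A : GL (Fin (n - 1)) F), ?_, ?_, ?_⟩
      · apply Units.ext
        rw [coe_mapGL]
        change (A : Matrix (Fin (n - 1)) (Fin (n - 1)) F).map τ = (A : Matrix (Fin (n - 1)) (Fin (n - 1)) F)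
        rw [hA]
        ext a b
        rw [Matrix.map_apply, Matrix.map_apply, hj₀']
      · rw [← hMo, ← hA, ← orderOf_units]
        rfl
      · apply Units.ext
        exact A.2
  obtain ⟨c', u, hcu⟩ := field_class (by omega) hinn hω hw hwo (fun g hg => pred (by omega) hw hwo g hg) hNq hq0 hq0e hs hFq
    hj hjo hBex hY'
  -- conjugation to the standard field automorphism
  obtain ⟨e⟩ := exists_index (n := n) (by omega)
  have hP : Psi n F (blk e (1, u⁻¹)) * phi n F τ * (Psi n F (blk e (1, u⁻¹)))⁻¹ ∈ Y := by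
    have h1 : Psi n F (blk e (1, u⁻¹)) * phi n F τ * (Psi n F (blk e (1, u⁻¹)))⁻¹ =
        Psi n F (blk e (1, u ^ (2 ^ k₀ - 1))) * phi n F τ := by
      have hmap : Units.map (τ : F →* F) u = u ^ 2 ^ k₀ := by
        apply Units.ext
        change τ (u : F) = _
        rw [hj, Units.val_pow_eq_pow_val]
      rw [← map_inv (Psi n F), ← map_inv (blk e), Prod.inv_mk, inv_one, inv_inv, mul_assoc, phi_mul_Psi, ← mul_assoc,
        ← map_mul (Psi n F), mapGL_blk, map_one, hmap, ← map_mul (blk e), Prod.mk_mul_mk, one_mul]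
      congr 4
      rw [inv_mul_eq_iff_eq_mul, ← pow_succ', Nat.sub_add_cancel (by omega)]
    rw [h1]
    refine mem_of_det (by omega) hinn hY' (c := c'⁻¹) ?_
    rw [det_blk, map_one, one_mul, hcu, mul_right_comm, inv_pow, mul_inv_cancel, one_mul]
  have hτo : orderOf (phi n F τ) = s := by rw [orderOf_injective _ (phi_injective (by omega)), hjo]
  by_cases hs2 : s = 2
  · -- order 2
    obtain ⟨w', hw', hwo'⟩ := Cfsg.Agent.H373.C2.exists_prime (e := n * k₀) (by nlinarith) (by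
      intro h
      have h5 : n ∣ 6 := Dvd.intro k₀ h
      have h6 := Nat.le_of_dvd (by norm_num) h5
      have h7 : n = 5 ∨ n = 6 := by omega
      rcases h7 with h7 | h7
      · rw [h7] at h5; norm_num at h5
      · rw [h7] at hnodd; norm_num at hnodd)
    have hwo2 : orderOf ((Fintype.card F : ℕ) : ZMod w') = n := by
      rw [hF, ord_mod _ _ (by omega) hwo', hk, hs2, mul_comm k₀ 2, Nat.gcd_mul_right, hnodd, one_mul,
        Nat.mul_div_cancel _ (by omega)]
    have hwq1 : ¬ w' ∣ Fintype.card F - 1 := by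
      intro h
      have h1 : 1 < Fintype.card F := Fintype.one_lt_card
      rw [← ZMod.natCast_eq_zero_iff, Nat.cast_sub (by omega), Nat.cast_one, sub_eq_zero] at h
      rw [h, orderOf_one] at hwo2
      omega
    obtain ⟨M, hM⟩ := H403.exists_mat_lin (F := GaloisField 2 k₀) (i := n) (N := w') hF₀ (by omega) (by
      rw [← pow_mul, dvd_of_ord hwo', mul_comm])
    obtain ⟨h, hh, hho⟩ := exists_fixed j₀ hj₀' hw'.pos hM ((Nat.Prime.coprime_iff_not_dvd hw').2 hwq1)
    have hw2 : w' ≠ 2 := by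
      rintro rfl
      have h1 : ((Fintype.card F : ℕ) : ZMod 2) = 0 := (ZMod.natCast_eq_zero_iff _ _).2 hqe
      have h2 : ((Fintype.card F : ℕ) : ZMod 2) ^ n = 1 := by rw [← hwo2]; exact pow_orderOf_eq_one _
      rw [h1, zero_pow (by omega)] at h2
      exact zero_ne_one h2
    obtain ⟨x, hx⟩ := exists_mul_conj (by omega) hinn hω hP hh (by
      rw [hτo, hho, hs2]; exact (Nat.coprime_primes Nat.prime_two hw').2 (Ne.symm hw2))
    exact not_two (F := F) (n := n) (by omega) hqe hw' (Or.inl hwo2) ⟨x, by rw [hx, hτo, hho, hs2]⟩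
  · have hsodd : Odd s := hs.odd_of_ne_two hs2
    obtain ⟨M, hM⟩ : ∃ M : Matrix (Fin n) (Fin n) (GaloisField 2 k₀), orderOf M = 2 ^ (t + 1) := by
      subst hn
      exact H402.Uni.exists_mat_uni (F := GaloisField 2 k₀) (p := 2) (a := t + 1) Nat.prime_two (by omega)
    obtain ⟨h, hh, hho⟩ := exists_fixed j₀ hj₀' (by positivity) hM (hcop2 _)
    obtain ⟨x, hx⟩ := exists_mul_conj (by omega) hinn hω hP hh (by
      rw [hτo, hho]; exact Nat.Coprime.pow_right _ (Nat.coprime_two_right.2 hsodd))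
    exact no_top (F := F) (n := n) hn ht (even_iff_two_dvd.2 hqe) hsodd hs.one_lt.ne' ⟨x, by rw [hx, hτo, hho]⟩

end main

end Cfsg.Agent.H350.PslOut
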