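import Cfsg.Agent.H350.Spec.PslOutC

/-!
# Outer automorphisms of `PSL_n(q)`, `q` even, `n = 2 ^ t + 1`: graph automorphisms, conclusion (helper350, for S3458)
-/

set_option autoImplicit false
set_option linter.unusedSectionVars false

namespace Cfsg.Agent.H350.PslOut

open Matrix
open Cfsg.Agent.H199.PslAut
open Cfsg.Agent.ClassicalGeometry.AutPSL.Root
open Cfsg.Agent.ClassicalGeometry.AutPSL.Auto

section graph

variable {F : Type*} [Field F] [Fintype F] {n k t : ℕ}
variable {Y : Subgroup (MulAut (Matrix.ProjectiveSpecialLinearGroup (Fin n) F))}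

theorem two_le_of_char [CharP F 2] (hF : Fintype.card F = 2 ^ k) : 1 ≤ k := by
  rcases Nat.eq_zero_or_pos k with rfl | h
  · have := Fintype.one_lt_card (α := F)
    rw [hF] at this
    simp at this
  · exact h

theorem ne_two_of_index (hq : 2 ∣ Fintype.card F) {w i : ℕ} (hi : 1 ≤ i) (h : orderOf ((Fintype.card F : ℕ) : ZMod w) = i) :
    w ≠ 2 := by
  rintro rfl
  have h1 : ((Fintype.card F : ℕ) : ZMod 2) = 0 := (ZMod.natCast_eq_zero_iff _ _).2 hq
  have h2 : ((Fintype.card F : ℕ) : ZMod 2) ^ i = 1 := by rw [← h]; exact pow_orderOf_eq_one _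
  rw [h1, zero_pow (by omega)] at h2
  exact zero_ne_one h2

theorem not_dvd_of_index {w i : ℕ} (hi : 2 ≤ i) (h : orderOf ((Fintype.card F : ℕ) : ZMod w) = i) :
    ¬ w ∣ Fintype.card F - 1 := by
  intro h0
  have h1 : 1 < Fintype.card F := Fintype.one_lt_card
  rw [← ZMod.natCast_eq_zero_iff, Nat.cast_sub (by omega), Nat.cast_one, sub_eq_zero] at h0
  rw [h0, orderOf_one] at h
  omega

theorem orderOf_bm {K : Type*} [Field K] {N n : ℕ} (e : Fin N ⊕ Unit ≃ Fin n) (A : Matrix (Fin N) (Fin N) K) :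
    orderOf (bm e (A, 1)) = orderOf A := by
  rw [orderOf_eq_orderOf_iff]
  intro j
  rw [← map_pow, Prod.pow_mk, one_pow]
  constructor
  · intro h
    have h1 : bm e (A ^ j, 1) = bm e 1 := by rw [h, map_one]
    exact congrArg Prod.fst (bm_injective e h1)
  · intro h
    rw [h]
    exact map_one _

/-- **Graph automorphisms.** -/
theorem no_graph [CharP F 2] (hF : Fintype.card F = 2 ^ k) (ht : 2 ≤ t) (hn : n = 2 ^ t + 1) (hinn : ∀ a, MulAut.conj a ∈ Y)
    (hω : ∀ y ∈ Y, ∃ g : Matrix.ProjectiveSpecialLinearGroup (Fin n) F, orderOf g = orderOf y)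
    {g : GL (Fin n) F} (hY : Psi n F g * iot n F ∈ Y) : False := by
  classical
  have h4 : 2 ^ 2 ≤ 2 ^ t := Nat.pow_le_pow_right (by norm_num) ht
  have hk := two_le_of_char hF
  have hqe := even_card hk hF
  obtain ⟨e⟩ := exists_index (n := n) (by omega)
  set m := 2 ^ (t - 1) with hm
  have hm2 : n - 1 = m + m := by rw [hn, Nat.add_sub_cancel, hm, ← two_mul, ← pow_succ', Nat.sub_add_cancel (by omega)]
  have hm0 : 1 ≤ m := Nat.one_le_two_pow
  obtain ⟨w, hw, hwo⟩ := Cfsg.Agent.H373.C2.exists_prime (e := (n - 1) * k) (by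
    rw [hn, Nat.add_sub_cancel]; nlinarith) (by
    rw [hn, Nat.add_sub_cancel]
    intro h
    have h5 : 2 ^ 2 ∣ 2 ^ t := pow_dvd_pow 2 ht
    have h6 := h5.trans (Dvd.intro k h)
    omega)
  have hwo' : orderOf ((Fintype.card F : ℕ) : ZMod w) = n - 1 := by
    rw [hF, ord_mod _ _ (by omega) hwo, Nat.gcd_mul_left_left, Nat.mul_div_cancel _ (by omega)]
  have hwd : w ∣ Nat.card F ^ m + 1 := by
    rw [Nat.card_eq_fintype_card, hF, ← pow_mul]
    have h1 : w ∣ 2 ^ ((n - 1) * k) - 1 := (dvd_of_ord hwo).2 dvd_rfl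
    have h2 : 2 ^ ((n - 1) * k) - 1 = (2 ^ (k * m) + 1) * (2 ^ (k * m) - 1) := by
      have := Nat.sq_sub_sq (2 ^ (k * m)) 1
      rw [one_pow, ← pow_mul] at this
      rw [← this]
      congr 2
      rw [hm2]; ring
    rw [h2] at h1
    refine (hw.dvd_mul.1 h1).resolve_right ?_
    rw [dvd_of_ord hwo]
    intro h3
    have h5 := Nat.le_of_dvd (Nat.mul_pos hk hm0) h3
    rw [hm2] at h5
    nlinarith [Nat.mul_pos hk hm0]
  obtain ⟨A, hA⟩ := H376.SpEmb.exists_of_dvd (by positivity) hwd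
    (H376.SpEmb.exists_plus F m (by omega))
  let e2 : Fin m ⊕ Fin m ≃ Fin (n - 1) := finSumFinEquiv.trans (finCongr hm2.symm)
  let re : Matrix (Fin m ⊕ Fin m) (Fin m ⊕ Fin m) F ≃ₐ[F] Matrix (Fin (n - 1)) (Fin (n - 1)) F := reindexAlgEquiv F F e2
  have hret : ∀ X, (re X)ᵀ = re Xᵀ := fun X => rfl
  let J := Matrix.J (Fin m) F
  have hJt : Jᵀ = J := by
    rw [Matrix.J_transpose]
    ext i j
    exact CharTwo.neg_eq _
  have hJJ : J * J = 1 := by
    rw [Matrix.J_squared]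
    ext i j
    exact CharTwo.neg_eq _
  let Jg : GL (Fin (n - 1)) F := ⟨re J, re J, by rw [← map_mul, hJJ, map_one], by rw [← map_mul, hJJ, map_one]⟩
  have hit : itGL Jg = Jg := by
    apply Units.ext
    rw [coe_itGL]
    change (re J)ᵀ = re J
    rw [hret, hJt]
  have hgg : Jg * Jg = 1 := by
    apply Units.ext
    change re J * re J = 1
    rw [← map_mul, hJJ, map_one]
  set δ := Matrix.GeneralLinearGroup.det g * (Matrix.GeneralLinearGroup.det Jg)⁻¹ with hδ
  have hY1 : Psi n F (blk e (Jg, δ)) * iot n F ∈ Y :=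
    mem_of_det (by omega) hinn hY (c := 1) (by rw [det_blk, hδ, one_pow, mul_one, mul_comm, inv_mul_cancel_right])
  set α := Psi n F (blk e (Jg, δ)) * iot n F with hα
  have hα2 : α * α = 1 := by
    rw [hα, mul_assoc, ← mul_assoc (iot n F), iot_mul_Psi, itGL_blk, hit, mul_assoc (Psi n F _) (iot n F),
      iot_mul_iot, mul_one, ← map_mul, ← map_mul, Prod.mk_mul_mk, hgg, mul_inv_cancel]
    change Psi n F (blk e 1) = 1
    rw [map_one, map_one]
  have hα1 : α ≠ 1 := by
    intro h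
    refine not_graph' (n := n) (by omega) (g := blk e (Jg, δ)) (σ := 1) (τ := 1) ?_
    rw [map_one, mul_one]
    exact h
  have hαo : orderOf α = 2 := orderOf_eq_prime (by rw [sq, hα2]) hα1
  -- the fixed element
  have hAo : orderOf (A : Matrix (Fin m ⊕ Fin m) (Fin m ⊕ Fin m) F) = w := by
    rw [← hA, orderOf_eq_orderOf_iff]
    intro j
    constructor
    · intro h
      exact Subtype.ext (by rw [SubmonoidClass.coe_pow]; exact h)
    · intro h
      rw [← SubmonoidClass.coe_pow, h]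
      rfl
  have hMo : orderOf (re A) = w := by
    rw [← hAo]
    exact orderOf_injective re.toRingEquiv.toMonoidHom re.injective _
  have hBo : orderOf (bm e (re A, 1)) = w := by
    rw [orderOf_bm, hMo]
  obtain ⟨B, hB, hBo'⟩ := exists_pr (F := F) hw.pos hBo ((Nat.Prime.coprime_iff_not_dvd hw).2
    (not_dvd_of_index (by omega) hwo'))
  have hfix : α (pr B) = pr B := by
    rw [hα]
    apply psi_iot_fix
    rw [hB, coe_blk, bm_transpose, ← map_mul, ← map_mul, Prod.mk_mul_mk, Prod.mk_mul_mk, one_mul, mul_one]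
    congr 2
    change re A * re J * (re A)ᵀ = re J
    rw [hret, ← map_mul, ← map_mul]
    congr 1
    exact SymplecticGroup.mem_iff.1 A.2
  obtain ⟨x, hx⟩ := exists_mul_conj (P := 1) (by omega) hinn hω (by rw [one_mul, inv_one, mul_one]; exact hY1) hfix (by
    rw [hαo, hBo']
    exact (Nat.coprime_primes Nat.prime_two hw).2 (Ne.symm (ne_two_of_index hqe (by omega) hwo')))
  exact not_two (F := F) (n := n) (by omega) hqe hw (Or.inr hwo') ⟨x, by rw [hx, hαo, hBo']⟩

/-- **Graph-field automorphisms.** -/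
theorem no_graph_field [CharP F 2] (hF : Fintype.card F = 2 ^ k) (ht : 2 ≤ t) (hn : n = 2 ^ t + 1)
    (hinn : ∀ a, MulAut.conj a ∈ Y)
    (hω : ∀ y ∈ Y, ∃ g : Matrix.ProjectiveSpecialLinearGroup (Fin n) F, orderOf g = orderOf y)
    {g : GL (Fin n) F} {σ : F ≃+* F} (hσ : orderOf σ = 2) (hY : Psi n F g * phi n F σ * iot n F ∈ Y) : False := by
  classical
  have h4 : 2 ^ 2 ≤ 2 ^ t := Nat.pow_le_pow_right (by norm_num) ht
  have hk := two_le_of_char hF
  have hqe := even_card hk hF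
  obtain ⟨e⟩ := exists_index (n := n) (by omega)
  have hσσ : σ * σ = 1 := by rw [← sq, ← hσ]; exact pow_orderOf_eq_one σ
  -- `σ a = a ^ (2 ^ k₀)`
  obtain ⟨k₀, hk₀, hkk, hj⟩ : ∃ k₀ : ℕ, 1 ≤ k₀ ∧ k = k₀ * 2 ∧ ∀ a, σ a = a ^ 2 ^ k₀ := by
    obtain ⟨k₀, j, h1, h2, h3, h5⟩ := exists_normalize hF Nat.prime_two hσ
    refine ⟨k₀, h1, h2, fun a => ?_⟩
    rw [← h3]
    congr 1
    rcases Nat.even_or_odd' j with ⟨i, hi | hi⟩
    · exfalso
      rw [hi, pow_mul, sq, hσσ, one_pow, orderOf_one] at h5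
      omega
    · rw [hi, pow_succ, pow_mul, sq, hσσ, one_pow, one_mul]
  have hq0 : 2 ≤ 2 ^ k₀ := by
    calc 2 = 2 ^ 1 := rfl
      _ ≤ 2 ^ k₀ := Nat.pow_le_pow_right (by norm_num) hk₀
  set q₀ := 2 ^ k₀ with hq₀
  have hFq : Fintype.card F = q₀ ^ 2 := by rw [hF, hkk, pow_mul]
  have hq1 : Fintype.card F - 1 = (q₀ + 1) * (q₀ - 1) := by
    rw [hFq]
    have := Nat.sq_sub_sq q₀ 1
    rwa [one_pow] at this
  have hσu : ∀ u : Fˣ, Units.map ((σ : F ≃+* F) : F →* F) u = u ^ q₀ := by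
    intro u
    apply Units.ext
    change σ (u : F) = _
    rw [hj, Units.val_pow_eq_pow_val]
  set δ := Matrix.GeneralLinearGroup.det g with hδ
  -- the square
  have hsq : Psi n F (g * mapGL σ (itGL g)) ∈ Y := by
    have h1 := Y.mul_mem hY hY
    have h2 : Psi n F g * phi n F σ * iot n F * (Psi n F g * phi n F σ * iot n F) = Psi n F (g * mapGL σ (itGL g)) := by
      calc Psi n F g * phi n F σ * iot n F * (Psi n F g * phi n F σ * iot n F)
          = Psi n F g * (phi n F σ * (iot n F * Psi n F g)) * (phi n F σ * iot n F) := by group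
        _ = Psi n F g * (phi n F σ * Psi n F (itGL g)) * (iot n F * phi n F σ) * iot n F := by
            rw [iot_mul_Psi]; group
        _ = Psi n F g * Psi n F (mapGL σ (itGL g)) * (phi n F σ * phi n F σ) * (iot n F * iot n F) := by
            rw [phi_mul_Psi, iot_mul_phi]; group
        _ = _ := by rw [iot_mul_iot, ← map_mul (phi n F), hσσ, map_one, mul_one, mul_one, ← map_mul]
    rwa [h2] at h1
  -- a prime of index `n - 1`
  obtain ⟨w, hw, hwo⟩ := Cfsg.Agent.H373.C2.exists_prime (e := (n - 1) * k) (by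
    rw [hn, Nat.add_sub_cancel]; nlinarith) (by
    rw [hn, Nat.add_sub_cancel]
    intro h
    have h5 : 2 ^ 2 ∣ 2 ^ t := pow_dvd_pow 2 ht
    have h6 := h5.trans (Dvd.intro k h)
    omega)
  have hwo' : orderOf ((Fintype.card F : ℕ) : ZMod w) = n - 1 := by
    rw [hF, ord_mod _ _ (by omega) hwo, Nat.gcd_mul_left_left, Nat.mul_div_cancel _ (by omega)]
  obtain ⟨c, hc⟩ := diag_case (by omega) hinn hω hw hwo' (fun g hg => pred (by omega) hw hwo' g hg) hsq
  have hdet : Matrix.GeneralLinearGroup.det (mapGL σ (itGL g)) = (δ ^ q₀)⁻¹ := by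
    have h1 : Matrix.GeneralLinearGroup.det (itGL g) = δ⁻¹ := by
      rw [eq_inv_iff_mul_eq_one]
      apply Units.ext
      change (((g⁻¹ : GL (Fin n) F) : Matrix (Fin n) (Fin n) F)ᵀ).det * (g : Matrix (Fin n) (Fin n) F).det = 1
      rw [det_transpose, ← det_mul, ← Units.val_mul, inv_mul_cancel, Units.val_one, det_one]
    have h2 : Matrix.GeneralLinearGroup.det (mapGL σ (itGL g)) = Units.map ((σ : F ≃+* F) : F →* F) (Matrix.GeneralLinearGroup.det (itGL g)) := by
      apply Units.ext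
      change ((itGL g : Matrix (Fin n) (Fin n) F).map σ).det = σ ((itGL g : Matrix (Fin n) (Fin n) F).det)
      exact ((σ : F →+* F).map_det _).symm
    rw [h2, hσu, h1, inv_pow]
  rw [map_mul, hdet, ← hδ] at hc
  -- exponents
  have hcard : Nat.card Fˣ = Fintype.card F - 1 := by rw [Nat.card_units, Nat.card_eq_fintype_card]
  obtain ⟨ε, hε⟩ := IsCyclic.exists_ofOrder_eq_natCard (α := Fˣ)
  rw [hcard] at hε
  have hgen : ∀ x : Fˣ, ∃ j : ℕ, ε ^ j = x := by
    intro x
    have h2 : x ∈ Subgroup.zpowers ε := by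
      have h3 : Subgroup.zpowers ε = ⊤ := Subgroup.eq_top_of_card_eq _ (by rw [Nat.card_zpowers, hε, hcard])
      rw [h3]; trivial
    rw [mem_zpowers_iff_mem_range_orderOf, Finset.mem_image] at h2
    obtain ⟨j, -, hj⟩ := h2
    exact ⟨j, hj⟩
  obtain ⟨a, ha⟩ := hgen δ
  obtain ⟨b, hb⟩ := hgen c⁻¹
  set d₁ := Nat.gcd n (q₀ + 1) with hd₁
  have hcopq : Nat.Coprime (q₀ + 1) (q₀ - 1) := by
    have h5 : Nat.gcd (q₀ + 1) (q₀ - 1) ∣ 2 := by
      have h6 := Nat.dvd_sub (Nat.gcd_dvd_left (q₀ + 1) (q₀ - 1)) (Nat.gcd_dvd_right (q₀ + 1) (q₀ - 1))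
      rwa [show q₀ + 1 - (q₀ - 1) = 2 by omega] at h6
    rcases (Nat.dvd_prime Nat.prime_two).1 h5 with h6 | h6
    · exact h6
    · exfalso
      have h7 := Nat.gcd_dvd_left (q₀ + 1) (q₀ - 1)
      rw [h6] at h7
      have h8 : 2 ∣ q₀ := dvd_pow_self 2 (by omega)
      omega
  have hda : d₁ ∣ a := by
    have h5 : δ ^ (q₀ - 1) = c⁻¹ ^ n := by
      rw [inv_pow, ← hc, _root_.mul_inv_rev, inv_inv, eq_mul_inv_iff_mul_eq, ← pow_succ, Nat.sub_add_cancel (by omega)]
    rw [← ha, ← hb, ← pow_mul, ← pow_mul, pow_eq_pow_iff_modEq, hε, hq1] at h5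
    have h6 : a * (q₀ - 1) ≡ b * n [MOD d₁] := h5.of_dvd ((Nat.gcd_dvd_right _ _).trans (dvd_mul_right _ _))
    have h7 : b * n ≡ 0 [MOD d₁] := (Nat.modEq_zero_iff_dvd).2 ((Nat.gcd_dvd_left _ _).trans (dvd_mul_left _ _))
    have h8 : d₁ ∣ a * (q₀ - 1) := (Nat.modEq_zero_iff_dvd).1 (h6.trans h7)
    exact (hcopq.coprime_dvd_left (Nat.gcd_dvd_right _ _)).dvd_of_dvd_mul_right h8
  obtain ⟨c', u, hcu⟩ : ∃ c' u : Fˣ, δ = c' ^ n * u ^ (q₀ + 1) := by
    obtain ⟨a', ha'⟩ := hda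
    obtain ⟨c', u, hcu⟩ := exists_pow_gcd_two (ε ^ a') n (q₀ + 1)
    exact ⟨c', u, by rw [← hcu, ← ha, ha', ← pow_mul, mul_comm]⟩
  -- conjugation to the standard automorphism
  set τ := phi n F σ * iot n F with hτ
  have hP : Psi n F (blk e (1, u)) * τ * (Psi n F (blk e (1, u)))⁻¹ ∈ Y := by
    have h1 : Psi n F (blk e (1, u)) * τ * (Psi n F (blk e (1, u)))⁻¹ = Psi n F (blk e (1, u ^ (q₀ + 1))) * τ := by
      have h2 : τ * (Psi n F (blk e (1, u)))⁻¹ = Psi n F (blk e (1, u ^ q₀)) * τ := by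
        rw [hτ, ← map_inv (Psi n F), ← map_inv (blk e), Prod.inv_mk, inv_one, mul_assoc, iot_mul_Psi, itGL_blk, map_one,
          inv_inv, ← mul_assoc, phi_mul_Psi, mapGL_blk, map_one, hσu, mul_assoc]
      rw [mul_assoc, h2, ← mul_assoc, ← map_mul (Psi n F), ← map_mul (blk e), Prod.mk_mul_mk, one_mul, ← pow_succ']
    rw [h1]
    refine mem_of_det (by omega) hinn (g := g) (by rw [hτ, ← mul_assoc]; exact hY) (c := c'⁻¹) ?_
    rw [det_blk, map_one, one_mul, ← hδ, hcu, mul_right_comm, inv_pow, mul_inv_cancel, one_mul]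
  have hτo : orderOf τ = 2 := by
    refine orderOf_eq_prime ?_ ?_
    · rw [sq, hτ, mul_assoc, ← mul_assoc (iot n F), iot_mul_phi, mul_assoc (phi n F σ) (iot n F),
        iot_mul_iot, mul_one, ← map_mul, hσσ, map_one]
    · intro h
      refine not_graph' (n := n) (by omega) (g := 1) (σ := σ) (τ := 1) ?_
      rw [map_one, one_mul, map_one]
      exact h
  -- the fixed element
  have hnodd : Nat.Coprime n 2 := by
    rw [hn, Nat.coprime_comm, Nat.coprime_two_left]
    exact (Nat.even_pow.2 ⟨even_two, by omega⟩).add_one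
  obtain ⟨w', hw', hwo2⟩ := Cfsg.Agent.H373.C2.exists_prime (e := n * k) (by nlinarith) (by
    intro h
    have h5 : n ∣ 6 := Dvd.intro k h
    have h6 := Nat.le_of_dvd (by norm_num) h5
    have h7 : n = 5 ∨ n = 6 := by omega
    rcases h7 with h7 | h7
    · rw [h7] at h5; norm_num at h5
    · rw [h7] at hnodd; norm_num at hnodd)
  have hwo3 : orderOf ((Fintype.card F : ℕ) : ZMod w') = n := by
    rw [hF, ord_mod _ _ (by omega) hwo2, Nat.gcd_mul_left_left, Nat.mul_div_cancel _ (by omega)]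
  have hwd : w' ∣ q₀ ^ n + 1 := by
    have h1 : w' ∣ 2 ^ (n * k) - 1 := (dvd_of_ord hwo2).2 dvd_rfl
    have h2 : 2 ^ (n * k) - 1 = (q₀ ^ n + 1) * (q₀ ^ n - 1) := by
      have h3 := Nat.sq_sub_sq (q₀ ^ n) 1
      rw [one_pow] at h3
      rw [← h3, hq₀, ← pow_mul, ← pow_mul]
      congr 2
      rw [hkk]; ring
    rw [h2] at h1
    refine (hw'.dvd_mul.1 h1).resolve_right ?_
    rw [hq₀, ← pow_mul, dvd_of_ord hwo2, hkk]
    intro h3
    have h5 := Nat.le_of_dvd (Nat.mul_pos hk₀ (by omega)) h3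
    nlinarith [Nat.mul_pos hk₀ (show 0 < n by omega)]
  obtain ⟨M, hM, hMo⟩ := H403.hElt_odd (F := F) (i := n) hFq (Nat.coprime_two_right.1 hnodd) hwd
  have hMσ : M.map (fun x => x ^ q₀) = M.map σ := by
    ext a b
    rw [Matrix.map_apply, Matrix.map_apply, hj]
  rw [hMσ] at hM
  obtain ⟨B, hB, hBo⟩ := exists_pr (F := F) hw'.pos hMo ((Nat.Prime.coprime_iff_not_dvd hw').2
    (not_dvd_of_index (by omega) hwo3))
  have hBit : (itr B : Matrix (Fin n) (Fin n) F) = M.map σ := by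
    rw [coe_itr]
    have h2 : ((B⁻¹ : Matrix.SpecialLinearGroup (Fin n) F) : Matrix (Fin n) (Fin n) F)ᵀ * Mᵀ = 1 := by
      have h3 : M * ((B⁻¹ : Matrix.SpecialLinearGroup (Fin n) F) : Matrix (Fin n) (Fin n) F) = 1 := by
        rw [← hB, ← Matrix.SpecialLinearGroup.coe_mul, mul_inv_cancel, Matrix.SpecialLinearGroup.coe_one]
      rw [← transpose_mul, h3, transpose_one]
    exact left_inv_eq_right_inv h2 hM
  have hσ2 : ∀ a, σ (σ a) = a := fun a => DFunLike.congr_fun hσσ a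
  have hfix : τ (pr B) = pr B := by
    rw [hτ, MulAut.mul_apply, iot_pr, phi_pr]
    congr 1
    apply Subtype.ext
    ext a b
    rw [coe_fld_apply, hBit, Matrix.map_apply, hσ2, hB]
  obtain ⟨x, hx⟩ := exists_mul_conj (by omega) hinn hω hP hfix (by
    rw [hτo, hBo]
    exact (Nat.coprime_primes Nat.prime_two hw').2 (Ne.symm (ne_two_of_index hqe (by omega) hwo3)))
  exact not_two (F := F) (n := n) (by omega) hqe hw' (Or.inl hwo3) ⟨x, by rw [hx, hτo, hBo]⟩

end graph

/-- **Automorphisms of `PSL_n(q)`, `q` even, `n = 2 ^ t + 1 ≥ 5`.** -/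
theorem autOk {F : Type*} [Field F] [Fintype F] {n k t : ℕ} (hF : Fintype.card F = 2 ^ k) (ht : 2 ≤ t)
    (hn : n = 2 ^ t + 1) : Cfsg.Agent.H373.Recog.AutOk (Matrix.ProjectiveSpecialLinearGroup (Fin n) F) := by
  intro Y hinn' hω y hy
  have hk1 : k ≠ 0 := by
    rintro rfl
    have := Fintype.one_lt_card (α := F)
    rw [hF] at this
    simp at this
  have hch : CharP F 2 := by
    have := Fact.mk Nat.prime_two
    exact charP_of_card_eq_prime_pow (p := 2) (f := k) hF
  have h4 : 2 ^ 2 ≤ 2 ^ t := Nat.pow_le_pow_right (by norm_num) ht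
  have hinn : ∀ a, MulAut.conj a ∈ Y := fun a => hinn' ⟨a, rfl⟩
  obtain ⟨w, hw, hwo⟩ := Cfsg.Agent.H373.C2.exists_prime (e := (n - 1) * k) (by
    rw [hn, Nat.add_sub_cancel]; have := Nat.pos_of_ne_zero hk1; nlinarith) (by
    rw [hn, Nat.add_sub_cancel]
    intro h
    have h5 : 2 ^ 2 ∣ 2 ^ t := pow_dvd_pow 2 ht
    have h6 := h5.trans (Dvd.intro k h)
    omega)
  have hwo' : orderOf ((Fintype.card F : ℕ) : ZMod w) = n - 1 := by
    rw [hF, ord_mod _ _ hk1 hwo, Nat.gcd_mul_left_left, Nat.mul_div_cancel _ (by omega)]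
  rcases exists_form (by omega) y with ⟨g, σ, h⟩ | ⟨-, g, σ, h⟩
  · have hσ : σ = 1 := no_field hF ht hn hinn hω (g := g) (σ := σ) (by rw [← h]; exact hy)
    rw [hσ, map_one, mul_one] at h
    have h1 := diag_case (by omega) hinn hω hw hwo' (fun g hg => pred (by omega) hw hwo' g hg) (g := g) (by rw [← h]; exact hy)
    obtain ⟨a, ha⟩ := (psi_inner_iff (by omega)).2 h1
    exact ⟨a, by rw [h, ha]⟩
  · exfalso
    have hY : Psi n F g * phi n F σ * iot n F ∈ Y := by rw [← h]; exact hy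
    have h1 := Y.mul_mem hY hY
    have h2 : Psi n F g * phi n F σ * iot n F * (Psi n F g * phi n F σ * iot n F) =
        Psi n F (g * mapGL σ (itGL g)) * phi n F (σ * σ) := by
      calc Psi n F g * phi n F σ * iot n F * (Psi n F g * phi n F σ * iot n F)
          = Psi n F g * (phi n F σ * (iot n F * Psi n F g)) * (phi n F σ * iot n F) := by group
        _ = Psi n F g * (phi n F σ * Psi n F (itGL g)) * (iot n F * phi n F σ) * iot n F := by
            rw [iot_mul_Psi]; group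
        _ = Psi n F g * Psi n F (mapGL σ (itGL g)) * (phi n F σ * phi n F σ) * (iot n F * iot n F) := by
            rw [phi_mul_Psi, iot_mul_phi]; group
        _ = _ := by rw [iot_mul_iot, ← map_mul (phi n F), mul_one, ← map_mul]
    rw [h2] at h1
    have h3 := no_field hF ht hn hinn hω h1
    rcases eq_or_ne σ 1 with rfl | hσ
    · rw [map_one, mul_one] at hY
      exact no_graph hF ht hn hinn hω hY
    · exact no_graph_field hF ht hn hinn hω (orderOf_eq_prime (by rw [sq, h3]) hσ) hY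

end Cfsg.Agent.H350.PslOut
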